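import Groth.Agent.Lib.TorPts21.Split
import Groth.Agent.S16117
import Mathlib.AlgebraicGeometry.Morphisms.Flat

/-!
# Maps from products into tori trivial on slices
-/

set_option autoImplicit false
set_option linter.style.haveILetI false
set_option backward.isDefEq.respectTransparency false
set_option backward.isDefEq.respectTransparency.types false

universe u

open CategoryTheory CategoryTheory.Limits MonoidalCategory CartesianMonoidalCategory MonObj AlgebraicGeometry

noncomputable section

namespace Groth.Agent.TorusSlice15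

variable {k : Type u} [Field k]

theorem appTop_comp_left {A B C : Over (Spec (CommRingCat.of k))} (f : A ⟶ B) (g : B ⟶ C) (r : Γ(C.left, ⊤)) :
    f.left.appTop (g.left.appTop r) = (f ≫ g).left.appTop r := by
  rw [Over.comp_left, Scheme.Hom.comp_appTop]
  rfl

theorem appTop_id_left {A : Over (Spec (CommRingCat.of k))} (f : A ⟶ A) (hf : f = 𝟙 A) (r : Γ(A.left, ⊤)) :
    f.left.appTop r = r := by
  subst hf
  rw [Over.id_left, Scheme.Hom.id_appTop]
  rfl

/-- A map from a product of varieties to a torus, trivial on two slices, is trivial. -/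
theorem eq_one_of_slices [IsAlgClosed k]
    (X Y : Over (Spec (CommRingCat.of k))) [IsIntegral X.left] [IsSeparated X.hom] [LocallyOfFiniteType X.hom]
    [QuasiCompact X.hom] [IsIntegral Y.left] [IsSeparated Y.hom] [LocallyOfFiniteType Y.hom] [QuasiCompact Y.hom]
    {T : Over (Spec (CommRingCat.of k))} [GrpObj T] (hT : Red.IsTorus T)
    (x₀ : 𝟙_ (Over (Spec (CommRingCat.of k))) ⟶ X) (y₀ : 𝟙_ (Over (Spec (CommRingCat.of k))) ⟶ Y) (F : X ⊗ Y ⟶ T)
    (h₁ : lift (𝟙 X) (toUnit X ≫ y₀) ≫ F = 1) (h₂ : lift (toUnit Y ≫ x₀) (𝟙 Y) ≫ F = 1) : F = 1 := by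
  obtain ⟨r, ⟨C⟩⟩ := TorPts21.exists_chars hT
  refine C.inj fun a => ?_
  rw [C.one]
  show C.ch F a = 1
  obtain ⟨g, h, -, -, hgh⟩ := S16117.result k X Y (C.ch F a) ((Group.isUnit a).map (C.ch F))
  let cg := x₀.left.appTop g
  let ch := y₀.left.appTop h
  have s₁ : g * (toUnit X).left.appTop ch = 1 := by
    have h3 : (lift (𝟙 X) (toUnit X ≫ y₀)).left.appTop (C.ch F a) = 1 := by
      rw [← C.nat, h₁, C.one]

    rw [hgh, map_mul, appTop_comp_left, appTop_comp_left, lift_snd, appTop_id_left _ (lift_fst _ _)] at h3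
    rw [← appTop_comp_left] at h3
    exact h3
  have s₂ : (toUnit Y).left.appTop cg * h = 1 := by
    have h3 : (lift (toUnit Y ≫ x₀) (𝟙 Y)).left.appTop (C.ch F a) = 1 := by
      rw [← C.nat, h₂, C.one]

    rw [hgh, map_mul, appTop_comp_left, appTop_comp_left, lift_fst, appTop_id_left _ (lift_snd _ _)] at h3
    rw [← appTop_comp_left] at h3
    exact h3
  have s₀ : cg * ch = 1 := by
    have h4 := congrArg x₀.left.appTop s₁
    rw [map_mul, map_one, appTop_comp_left, appTop_id_left _ (toUnit_unique _ _)] at h4
    exact h4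
  rw [hgh]
  calc (fst X Y).left.appTop g * (snd X Y).left.appTop h
      = (fst X Y).left.appTop g * (snd X Y).left.appTop h * (toUnit (X ⊗ Y)).left.appTop (cg * ch) := by
        rw [s₀, map_one, _root_.mul_one]
    _ = (fst X Y).left.appTop (g * (toUnit X).left.appTop ch) * (snd X Y).left.appTop ((toUnit Y).left.appTop cg * h) := by
        simp only [map_mul, appTop_comp_left]
        rw [toUnit_unique (fst X Y ≫ toUnit X) (toUnit _), toUnit_unique (snd X Y ≫ toUnit Y) (toUnit _)]
        ring
    _ = 1 := by rw [s₁, s₂, map_one, map_one, _root_.mul_one]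

variable {K : Type u} [Field K] [Algebra k K]

/-- Base change along a field extension is faithful. -/
theorem bc_map_injective {X Y : Over (Spec (CommRingCat.of k))} {f g : X ⟶ Y}
    (h : (Over.pullback (Spec.map (CommRingCat.ofHom (algebraMap k K)))).map f =
      (Over.pullback (Spec.map (CommRingCat.ofHom (algebraMap k K)))).map g) : f = g := by
  let φ := Spec.map (CommRingCat.ofHom (algebraMap k K))
  haveI : Surjective φ := inferInstance
  haveI : Flat φ := inferInstance
  haveI : QuasiCompact φ := inferInstance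
  haveI : Flat (pullback.fst X.hom φ) := inferInstance
  haveI : Surjective (pullback.fst X.hom φ) := inferInstance
  haveI : Epi (pullback.fst X.hom φ) := Flat.epi_of_flat_of_surjective _
  ext1
  rw [← cancel_epi (pullback.fst X.hom φ)]
  have hn : ∀ e : X ⟶ Y, ((Over.pullback φ).map e).left ≫ pullback.fst Y.hom φ = pullback.fst X.hom φ ≫ e.left :=
    fun e => pullback.lift_fst _ _ _
  rw [← hn, ← hn, h]

end Groth.Agent.TorusSlice15
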