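import Groth.Agent.Lib.TorusSlice15.Basic
import Groth.Agent.Lib.TorPts21.FieldDescent
import Groth.Agent.Lib.TorPts21.BaseChangeTorus
import Groth.Agent.Lib.BorelFix21.BaseChange
import Groth.Agent.Lib.AbRigid.KernelPair
import Groth.Agent.Lib.AbRigid.Epi
import Groth.Agent.Lib.AbRigid.SmoothGI
import Groth.Agent.Lib.CubeField.Product
import Groth.Agent.S17451
import Groth.Agent.S14584

/-!
# Extensions of abelian varieties by tori are smooth, connected and commutative
-/

set_option autoImplicit false
set_option linter.style.haveILetI false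
set_option backward.isDefEq.respectTransparency false
set_option backward.isDefEq.respectTransparency.types false

universe u

open CategoryTheory CategoryTheory.Limits MonoidalCategory CartesianMonoidalCategory MonObj AlgebraicGeometry

noncomputable section

namespace Groth.Agent.TorusSlice15

variable {k : Type u} [Field k]

/-- An open surjection with connected fibres onto a connected space has connected source. -/
theorem connectedSpace_of_fibres {A B : Type*} [TopologicalSpace A] [TopologicalSpace B] [ConnectedSpace B]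
    (f : A → B) (ho : IsOpenMap f) (hs : Function.Surjective f) (hf : ∀ b, IsPreconnected (f ⁻¹' {b})) :
    ConnectedSpace A := by
  obtain ⟨b⟩ := (inferInstance : Nonempty B)
  haveI : Nonempty A := ⟨(hs b).choose⟩
  refine { toPreconnectedSpace := preconnectedSpace_iff_clopen.mpr fun U hU => ?_, toNonempty := inferInstance }
  by_contra h
  rw [not_or] at h
  obtain ⟨a, ha⟩ := Set.nonempty_iff_ne_empty.mpr h.1
  obtain ⟨a', ha'⟩ := Set.nonempty_compl.mpr h.2
  have hcov : Set.univ ⊆ f '' U ∪ f '' Uᶜ := fun c _ => by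
    obtain ⟨x, rfl⟩ := hs c
    rcases em (x ∈ U) with hx | hx
    · exact Or.inl ⟨x, hx, rfl⟩
    · exact Or.inr ⟨x, hx, rfl⟩
  obtain ⟨c, -, ⟨x, hx, hxc⟩, ⟨y, hy, hyc⟩⟩ := (ConnectedSpace.toPreconnectedSpace (α := B)).isPreconnected_univ _ _ (ho _ hU.2)
    (ho _ hU.1.isOpen_compl) hcov ⟨f a, trivial, a, ha, rfl⟩ ⟨f a', trivial, a', ha', rfl⟩
  obtain ⟨z, -, hz, hz'⟩ := hf c U Uᶜ hU.2 hU.1.isOpen_compl (fun z _ => em (z ∈ U)) ⟨x, hxc, hx⟩ ⟨y, hyc, hy⟩
  exact hz' hz

variable {G T A : Over (Spec (CommRingCat.of k))} [GrpObj G] [GrpObj T] [GrpObj A] (i : T ⟶ G) [IsMonHom i]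
  (q : G ⟶ A) [IsMonHom q] (hker : AlgGrp.IsKernel i q)

include hker in
/-- An extension of an abelian variety by a torus is smooth and connected. -/
theorem smooth_connected [LocallyOfFiniteType G.hom] [QuasiCompact G.hom] [Flat q.left] [Surjective q.left]
    (hT : Red.IsTorus T) [LocallyOfFiniteType T.hom] [IsProper A.hom] [Smooth A.hom] [ConnectedSpace A.left] :
    Smooth G.hom ∧ ConnectedSpace G.left := by
  haveI : IsSeparated A.hom := inferInstance
  haveI : QuasiCompact (q.left ≫ A.hom) := by rw [Over.w]; infer_instance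
  haveI : QuasiCompact q.left := QuasiCompact.of_comp q.left A.hom
  obtain ⟨hTs, hTc⟩ := TorPts21.smooth_connected_of_isTorus hT
  haveI := hTs
  haveI := hTc
  haveI : Smooth q.left := AbRigid.of_kernel q i hker @Smooth hTs
  refine ⟨by rw [← Over.w q]; infer_instance, ?_⟩
  haveI := AbRigid.geometricallyIrreducible_of_connected T
  haveI := CubeField.geometricallyConnected_of_irreducible T.hom
  refine connectedSpace_of_fibres q.left q.left.isOpenMap q.left.surjective fun a => ?_
  obtain ⟨g, rfl⟩ := q.left.surjective a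
  haveI : GeometricallyConnected (fst G T).left :=
    inferInstanceAs (GeometricallyConnected (pullback.fst G.hom T.hom))
  have hconn := ((fst G T).left.isConnected_preimage_singleton g).isPreconnected.image
    (fst G T * (snd G T ≫ i)).left ((fst G T * (snd G T ≫ i)).left.continuous.continuousOn)
  have hp : IsPullback (fst G T).left (fst G T * (snd G T ≫ i)).left q.left q.left :=
    (AbRigid.isPullback_kernelPair q i hker).map (Over.forget _)
  have heq : q.left ⁻¹' {q.left g} = (fst G T * (snd G T ≫ i)).left '' ((fst G T).left ⁻¹' {g}) := by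
    ext g'
    constructor
    · intro hg'
      obtain ⟨z, hz1, hz2⟩ := Scheme.Pullback.exists_preimage_pullback (f := q.left) (g := q.left) g g'
        (Eq.symm hg')
      refine ⟨hp.isoPullback.inv z, ?_, ?_⟩
      · show (fst G T).left _ = g
        rw [← Scheme.Hom.comp_apply, hp.isoPullback_inv_fst]
        exact hz1
      · rw [← Scheme.Hom.comp_apply, hp.isoPullback_inv_snd]
        exact hz2
    · rintro ⟨z, hz, rfl⟩
      have hw : (fst G T).left ≫ q.left = (fst G T * (snd G T ≫ i)).left ≫ q.left := hp.w
      have hw' := congrArg (fun m => m z) hw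
      simp only [Scheme.Hom.comp_apply] at hw'
      show q.left _ = q.left g
      rw [← hw', show (fst G T).left z = g from hz]
  rw [heq]
  exact hconn

include hker in
/-- The kernel sequence after base change. -/
theorem isKernel_bc {S' : Scheme.{u}} (φ : S' ⟶ Spec (CommRingCat.of k)) :
    AlgGrp.IsKernel ((Over.pullback φ).map i) ((Over.pullback φ).map q) := by
  let P := Over.pullback φ
  have hη : P.map η[A] = toUnit _ ≫ η[P.obj A] := by
    have h : P.map (1 : 𝟙_ (Over (Spec (CommRingCat.of k))) ⟶ A) = 1 := Functor.map_one P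
    rw [Hom.one_def, Hom.one_def, toUnit_unique (toUnit (𝟙_ (Over (Spec (CommRingCat.of k))))) (𝟙 _),
      Category.id_comp] at h
    exact h
  have hTerm : IsTerminal (P.obj (𝟙_ (Over (Spec (CommRingCat.of k))))) :=
    IsTerminal.isTerminalObj P _ CartesianMonoidalCategory.isTerminalTensorUnit
  let u : P.obj (𝟙_ _) ≅ 𝟙_ (Over S') := hTerm.uniqueUpToIso CartesianMonoidalCategory.isTerminalTensorUnit
  refine (IsPullback.map P hker).of_iso (Iso.refl _) (Iso.refl _) u (Iso.refl _) ?_ ?_ ?_ ?_
  · simp; rfl
  · exact toUnit_unique _ _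
  · simp; rfl
  · rw [Iso.refl_hom, Category.comp_id, hη]
    exact congrArg (· ≫ η[P.obj A]) (toUnit_unique _ _)

include hker in
/-- An extension of an abelian variety by a torus is commutative. -/
theorem isCommMonObj [LocallyOfFiniteType G.hom] [QuasiCompact G.hom] [Flat q.left] [Surjective q.left]
    [IsClosedImmersion i.left] (hT : Red.IsTorus T) [IsProper A.hom] [Smooth A.hom] [ConnectedSpace A.left] :
    IsCommMonObj G := by
  haveI := (TorPts21.smooth_connected_of_isTorus hT).1
  obtain ⟨hs, hc⟩ := smooth_connected i q hker hT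
  haveI := hs
  haveI := hc
  let φ := Spec.map (CommRingCat.ofHom (algebraMap k (AlgebraicClosure k)))
  haveI : IsProper (Red.bc φ A).hom := BorelFix21.isProper_bc φ A
  haveI : Smooth (Red.bc φ A).hom := BorelFix21.smooth_bc φ A
  haveI : ConnectedSpace (Red.bc φ A).left := BorelFix21.connectedSpace_bc φ A
  haveI : IsMonHom ((Over.pullback φ).map i) := inferInstance
  haveI : IsMonHom ((Over.pullback φ).map q) := inferInstance
  haveI : IsClosedImmersion ((Over.pullback φ).map i).left := BorelFix21.isClosedImmersion_bc φ i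
  haveI : Flat ((Over.pullback φ).map q).left :=
    MorphismProperty.of_isPullback (P := @Flat) (BorelFix21.isPullback_bc_map φ q) ‹_›
  haveI : Surjective ((Over.pullback φ).map q).left :=
    MorphismProperty.of_isPullback (P := @Surjective) (BorelFix21.isPullback_bc_map φ q) ‹_›
  exact S17451.result k G ⟨Red.bc φ T, inferInstance, (Over.pullback φ).map i, Red.bc φ A, inferInstance,
    (Over.pullback φ).map q, inferInstance, inferInstance, TorPts21.isTorus_bc φ hT, inferInstance, inferInstance,
    inferInstance, isKernel_bc i q hker φ, inferInstance, inferInstance, inferInstance⟩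

omit [GrpObj G] [GrpObj A] in
/-- A morphism from a product to a torus, trivial on two slices, is trivial, over any field. -/
theorem eq_one_of_slices_field {X Y : Over (Spec (CommRingCat.of k))} [LocallyOfFiniteType X.hom]
    [QuasiCompact X.hom] [IsSeparated X.hom] [GeometricallyIntegral X.hom] [LocallyOfFiniteType Y.hom]
    [QuasiCompact Y.hom] [IsSeparated Y.hom] [GeometricallyIntegral Y.hom] (hT : Red.IsTorus T)
    (x₀ : 𝟙_ (Over (Spec (CommRingCat.of k))) ⟶ X) (y₀ : 𝟙_ (Over (Spec (CommRingCat.of k))) ⟶ Y) (F : X ⊗ Y ⟶ T)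
    (h₁ : lift (𝟙 X) (toUnit X ≫ y₀) ≫ F = 1) (h₂ : lift (toUnit Y ≫ x₀) (𝟙 Y) ≫ F = 1) : F = 1 := by
  let K := AlgebraicClosure k
  let φ := Spec.map (CommRingCat.ofHom (algebraMap k K))
  let P := Over.pullback φ
  let c := prodComparisonIso P X Y
  have hTerm : IsTerminal (P.obj (𝟙_ (Over (Spec (CommRingCat.of k))))) :=
    IsTerminal.isTerminalObj P _ CartesianMonoidalCategory.isTerminalTensorUnit
  let u : P.obj (𝟙_ _) ≅ 𝟙_ (Over (Spec (CommRingCat.of K))) :=
    hTerm.uniqueUpToIso CartesianMonoidalCategory.isTerminalTensorUnit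
  have hc1 : ∀ {Z} (a : Z ⟶ X) (b : Z ⟶ Y), lift (P.map a) (P.map b) ≫ c.inv = P.map (lift a b) := by
    intro Z a b
    rw [Iso.comp_inv_eq]
    apply CartesianMonoidalCategory.hom_ext
    · rw [lift_fst, Category.assoc, prodComparisonIso_hom, CartesianMonoidalCategory.prodComparison_fst, ← Functor.map_comp, lift_fst]
    · rw [lift_snd, Category.assoc, prodComparisonIso_hom, CartesianMonoidalCategory.prodComparison_snd, ← Functor.map_comp, lift_snd]
  have hu : ∀ {Z : Over (Spec (CommRingCat.of k))} (W : Over (Spec (CommRingCat.of k)))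
      (p : 𝟙_ (Over (Spec (CommRingCat.of k))) ⟶ W),
      P.map (toUnit Z ≫ p) = toUnit (P.obj Z) ≫ u.inv ≫ P.map p := by
    intro Z W p
    rw [Functor.map_comp, ← Category.assoc]
    congr 1
    exact hTerm.hom_ext _ _
  haveI : IsIntegral (P.obj X).left := inferInstanceAs (IsIntegral (Limits.pullback X.hom φ))
  haveI : IsIntegral (P.obj Y).left := inferInstanceAs (IsIntegral (Limits.pullback Y.hom φ))
  haveI : IsSeparated (P.obj X).hom := inferInstanceAs (IsSeparated (pullback.snd X.hom φ))
  haveI : IsSeparated (P.obj Y).hom := inferInstanceAs (IsSeparated (pullback.snd Y.hom φ))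
  haveI : LocallyOfFiniteType (P.obj X).hom := inferInstanceAs (LocallyOfFiniteType (pullback.snd X.hom φ))
  haveI : LocallyOfFiniteType (P.obj Y).hom := inferInstanceAs (LocallyOfFiniteType (pullback.snd Y.hom φ))
  haveI : QuasiCompact (P.obj X).hom := inferInstanceAs (QuasiCompact (pullback.snd X.hom φ))
  haveI : QuasiCompact (P.obj Y).hom := inferInstanceAs (QuasiCompact (pullback.snd Y.hom φ))
  have key : c.inv ≫ P.map F = 1 := by
    refine eq_one_of_slices (P.obj X) (P.obj Y) (TorPts21.isTorus_bc φ hT) (u.inv ≫ P.map x₀) (u.inv ≫ P.map y₀)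
      _ ?_ ?_
    · rw [← hu, ← P.map_id, ← Category.assoc, hc1, ← Functor.map_comp, h₁]
      exact Functor.map_one P
    · rw [← hu, ← P.map_id, ← Category.assoc, hc1, ← Functor.map_comp, h₂]
      exact Functor.map_one P
  refine bc_map_injective (K := K) ?_
  rw [Iso.inv_comp_eq] at key
  exact key.trans ((MonObj.comp_one _).trans (Functor.map_one P).symm)

end Groth.Agent.TorusSlice15
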